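import Cfsg.Agent.Lib.Mult.F42.CvD

set_option autoImplicit false
set_option maxRecDepth 100000
set_option Elab.async false

namespace Cfsg.Agent.Mult.F42

open Cfsg.Agent.CG Cfsg.Agent.CG.F42

theorem cvc0 : cv0.chk tcR 0 448 = true := by decide +kernel
theorem cvc1 : cv0.chk tcR 448 213 = true := by decide +kernel
theorem cvc2 : cv0.chk tcR 661 52 = true := by decide +kernel
theorem cvc3 : cv0.chk tcR 713 53 = true := by decide +kernel
theorem cvc4 : cv0.chk tcR 766 34 = true := by decide +kernel
theorem cvc5 : cv0.chk tcR 800 15 = true := by decide +kernel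
theorem cvc6 : cv0.chk tcR 815 14 = true := by decide +kernel
theorem cvc7 : cv0.chk tcR 829 12 = true := by decide +kernel
theorem cvc8 : cv0.chk tcR 841 26 = true := by decide +kernel
theorem cvc9 : cv0.chk tcR 867 14 = true := by decide +kernel
theorem cvc10 : cv0.chk tcR 881 9 = true := by decide +kernel
theorem cvc11 : cv0.chk tcR 890 9 = true := by decide +kernel
theorem cvc12 : cv0.chk tcR 899 9 = true := by decide +kernel
theorem cvc13 : cv0.chk tcR 908 9 = true := by decide +kernel
theorem cvc14 : cv0.chk tcR 917 9 = true := by decide +kernel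
theorem cvc15 : cv0.chk tcR 926 9 = true := by decide +kernel
theorem cvc16 : cv0.chk tcR 935 8 = true := by decide +kernel
theorem cvc17 : cv0.chk tcR 943 8 = true := by decide +kernel
theorem cvc18 : cv0.chk tcR 951 7 = true := by decide +kernel
theorem cvc19 : cv0.chk tcR 958 7 = true := by decide +kernel
theorem cvc20 : cv0.chk tcR 965 7 = true := by decide +kernel
theorem cvc21 : cv0.chk tcR 972 7 = true := by decide +kernel
theorem cvc22 : cv0.chk tcR 979 7 = true := by decide +kernel
theorem cvc23 : cv0.chk tcR 986 7 = true := by decide +kernel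
theorem cvc24 : cv0.chk tcR 993 7 = true := by decide +kernel
theorem cvc25 : cv0.chk tcR 1000 7 = true := by decide +kernel
theorem cvc26 : cv0.chk tcR 1007 7 = true := by decide +kernel
theorem cvc27 : cv0.chk tcR 1014 7 = true := by decide +kernel
theorem cvc28 : cv0.chk tcR 1021 7 = true := by decide +kernel
theorem cvc29 : cv0.chk tcR 1028 7 = true := by decide +kernel
theorem cvc30 : cv0.chk tcR 1035 7 = true := by decide +kernel
theorem cvc31 : cv0.chk tcR 1042 7 = true := by decide +kernel
theorem cvc32 : cv0.chk tcR 1049 7 = true := by decide +kernel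
theorem cvc33 : cv0.chk tcR 1056 7 = true := by decide +kernel
theorem cvc34 : cv0.chk tcR 1063 7 = true := by decide +kernel
theorem cvc35 : cv0.chk tcR 1070 7 = true := by decide +kernel
theorem cvc36 : cv0.chk tcR 1077 6 = true := by decide +kernel
theorem cvc37 : cv0.chk tcR 1083 6 = true := by decide +kernel
theorem cvc38 : cv0.chk tcR 1089 6 = true := by decide +kernel
theorem cvc39 : cv0.chk tcR 1095 6 = true := by decide +kernel
theorem cvc40 : cv0.chk tcR 1101 6 = true := by decide +kernel
theorem cvc41 : cv0.chk tcR 1107 6 = true := by decide +kernel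
theorem cvc42 : cv0.chk tcR 1113 24 = true := by decide +kernel
theorem cvc43 : cv0.chk tcR 1137 14 = true := by decide +kernel
theorem cvc44 : cv0.chk tcR 1151 14 = true := by decide +kernel
theorem cvc45 : cv0.chk tcR 1165 11 = true := by decide +kernel
theorem cvc46 : cv0.chk tcR 1176 9 = true := by decide +kernel
theorem cvc47 : cv0.chk tcR 1185 9 = true := by decide +kernel
theorem cvc48 : cv0.chk tcR 1194 9 = true := by decide +kernel
theorem cvc49 : cv0.chk tcR 1203 9 = true := by decide +kernel
theorem cvc50 : cv0.chk tcR 1212 9 = true := by decide +kernel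
theorem cvc51 : cv0.chk tcR 1221 9 = true := by decide +kernel
theorem cvc52 : cv0.chk tcR 1230 9 = true := by decide +kernel
theorem cvc53 : cv0.chk tcR 1239 9 = true := by decide +kernel
theorem cvc54 : cv0.chk tcR 1248 9 = true := by decide +kernel
theorem cvc55 : cv0.chk tcR 1257 7 = true := by decide +kernel
theorem cvc56 : cv0.chk tcR 1264 7 = true := by decide +kernel
theorem cvc57 : cv0.chk tcR 1271 7 = true := by decide +kernel
theorem cvc58 : cv0.chk tcR 1278 7 = true := by decide +kernel
theorem cvc59 : cv0.chk tcR 1285 7 = true := by decide +kernel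
theorem cvc60 : cv0.chk tcR 1292 7 = true := by decide +kernel
theorem cvc61 : cv0.chk tcR 1299 7 = true := by decide +kernel
theorem cvc62 : cv0.chk tcR 1306 7 = true := by decide +kernel
theorem cvc63 : cv0.chk tcR 1313 7 = true := by decide +kernel
theorem cvc64 : cv0.chk tcR 1320 7 = true := by decide +kernel
theorem cvc65 : cv0.chk tcR 1327 7 = true := by decide +kernel
theorem cvc66 : cv0.chk tcR 1334 6 = true := by decide +kernel
theorem cvc67 : cv0.chk tcR 1340 6 = true := by decide +kernel
theorem cvc68 : cv0.chk tcR 1346 6 = true := by decide +kernel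
theorem cvc69 : cv0.chk tcR 1352 7 = true := by decide +kernel
theorem cvc70 : cv0.chk tcR 1359 7 = true := by decide +kernel
theorem cvc71 : cv0.chk tcR 1366 6 = true := by decide +kernel
theorem cvc72 : cv0.chk tcR 1372 6 = true := by decide +kernel
theorem cvc73 : cv0.chk tcR 1378 6 = true := by decide +kernel
theorem cvc74 : cv0.chk tcR 1384 5 = true := by decide +kernel
theorem cvc75 : cv0.chk tcR 1389 5 = true := by decide +kernel
theorem cvc76 : cv0.chk tcR 1394 5 = true := by decide +kernel
theorem cvc77 : cv0.chk tcR 1399 5 = true := by decide +kernel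
theorem cvc78 : cv0.chk tcR 1404 7 = true := by decide +kernel
theorem cvc79 : cv0.chk tcR 1411 7 = true := by decide +kernel
theorem cvc80 : cv0.chk tcR 1418 7 = true := by decide +kernel
theorem cvc81 : cv0.chk tcR 1425 7 = true := by decide +kernel
theorem cvc82 : cv0.chk tcR 1432 7 = true := by decide +kernel
theorem cvc83 : cv0.chk tcR 1439 7 = true := by decide +kernel
theorem cvc84 : cv0.chk tcR 1446 7 = true := by decide +kernel
theorem cvc85 : cv0.chk tcR 1453 6 = true := by decide +kernel
theorem cvc86 : cv0.chk tcR 1459 6 = true := by decide +kernel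
theorem cvc87 : cv0.chk tcR 1465 6 = true := by decide +kernel
theorem cvc88 : cv0.chk tcR 1471 6 = true := by decide +kernel
theorem cvc89 : cv0.chk tcR 1477 6 = true := by decide +kernel
theorem cvc90 : cv0.chk tcR 1483 6 = true := by decide +kernel
theorem cvc91 : cv0.chk tcR 1489 5 = true := by decide +kernel
theorem cvc92 : cv0.chk tcR 1494 5 = true := by decide +kernel
theorem cvc93 : cv0.chk tcR 1499 5 = true := by decide +kernel
theorem cvc94 : cv0.chk tcR 1504 5 = true := by decide +kernel
theorem cvc95 : cv0.chk tcR 1509 5 = true := by decide +kernel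
theorem cvc96 : cv0.chk tcR 1514 5 = true := by decide +kernel
theorem cvc97 : cv0.chk tcR 1519 5 = true := by decide +kernel
theorem cvc98 : cv0.chk tcR 1524 5 = true := by decide +kernel
theorem cvc99 : cv0.chk tcR 1529 5 = true := by decide +kernel
theorem cvc100 : cv0.chk tcR 1534 5 = true := by decide +kernel
theorem cvc101 : cv0.chk tcR 1539 5 = true := by decide +kernel
theorem cvc102 : cv0.chk tcR 1544 5 = true := by decide +kernel
theorem cvc103 : cv0.chk tcR 1549 5 = true := by decide +kernel
theorem cvc104 : cv0.chk tcR 1554 5 = true := by decide +kernel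
theorem cvc105 : cv0.chk tcR 1559 5 = true := by decide +kernel
theorem cvc106 : cv0.chk tcR 1564 28 = true := by decide +kernel
theorem cvc107 : cv0.chk tcR 1592 28 = true := by decide +kernel
theorem cvc108 : cv0.chk tcR 1620 20 = true := by decide +kernel
theorem cvc109 : cv0.chk tcR 1640 7 = true := by decide +kernel
theorem cvc110 : cv0.chk tcR 1647 7 = true := by decide +kernel
theorem cvc111 : cv0.chk tcR 1654 5 = true := by decide +kernel
theorem cvc112 : cv0.chk tcR 1659 4 = true := by decide +kernel
theorem cvc113 : cv0.chk tcR 1663 4 = true := by decide +kernel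
theorem cvc114 : cv0.chk tcR 1667 4 = true := by decide +kernel
theorem cvc115 : cv0.chk tcR 1671 4 = true := by decide +kernel
theorem cvc116 : cv0.chk tcR 1675 5 = true := by decide +kernel
theorem cvc117 : cv0.chk tcR 1680 5 = true := by decide +kernel
theorem cvc118 : cv0.chk tcR 1685 5 = true := by decide +kernel
theorem cvc119 : cv0.chk tcR 1690 4 = true := by decide +kernel
theorem cvc120 : cv0.chk tcR 1694 4 = true := by decide +kernel
theorem cvc121 : cv0.chk tcR 1698 4 = true := by decide +kernel
theorem cvc122 : cv0.chk tcR 1702 4 = true := by decide +kernel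
theorem cvc123 : cv0.chk tcR 1706 4 = true := by decide +kernel
theorem cvc124 : cv0.chk tcR 1710 3 = true := by decide +kernel
theorem cvc125 : cv0.chk tcR 1713 3 = true := by decide +kernel
theorem cvc126 : cv0.chk tcR 1716 3 = true := by decide +kernel
theorem cvc127 : cv0.chk tcR 1719 3 = true := by decide +kernel
theorem cvc128 : cv0.chk tcR 1722 3 = true := by decide +kernel
theorem cvc129 : cv0.chk tcR 1725 3 = true := by decide +kernel
theorem cvc130 : cv0.chk tcR 1728 3 = true := by decide +kernel
theorem cvc131 : cv0.chk tcR 1731 3 = true := by decide +kernel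
theorem cvc132 : cv0.chk tcR 1734 3 = true := by decide +kernel
theorem cvc133 : cv0.chk tcR 1737 3 = true := by decide +kernel
theorem cvc134 : cv0.chk tcR 1740 3 = true := by decide +kernel
theorem cvc135 : cv0.chk tcR 1743 3 = true := by decide +kernel
theorem cvc136 : cv0.chk tcR 1746 3 = true := by decide +kernel
theorem cvc137 : cv0.chk tcR 1749 3 = true := by decide +kernel
theorem cvc138 : cv0.chk tcR 1752 3 = true := by decide +kernel
theorem cvc139 : cv0.chk tcR 1755 3 = true := by decide +kernel
theorem cvc140 : cv0.chk tcR 1758 3 = true := by decide +kernel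
theorem cvc141 : cv0.chk tcR 1761 3 = true := by decide +kernel
theorem cvc142 : cv0.chk tcR 1764 3 = true := by decide +kernel
theorem cvc143 : cv0.chk tcR 1767 3 = true := by decide +kernel
theorem cvc144 : cv0.chk tcR 1770 3 = true := by decide +kernel
theorem cvc145 : cv0.chk tcR 1773 3 = true := by decide +kernel
theorem cvc146 : cv0.chk tcR 1776 3 = true := by decide +kernel
theorem cvc147 : cv0.chk tcR 1779 3 = true := by decide +kernel
theorem cvc148 : cv0.chk tcR 1782 3 = true := by decide +kernel
theorem cvc149 : cv0.chk tcR 1785 3 = true := by decide +kernel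
theorem cvc150 : cv0.chk tcR 1788 3 = true := by decide +kernel
theorem cvc151 : cv0.chk tcR 1791 3 = true := by decide +kernel
theorem cvc152 : cv0.chk tcR 1794 3 = true := by decide +kernel
theorem cvc153 : cv0.chk tcR 1797 3 = true := by decide +kernel
theorem cvc154 : cv0.chkP cvP [1] = true := by decide +kernel
theorem cvc155 : chkPairs app bs tcS cvP = true := by decide +kernel

end Cfsg.Agent.Mult.F42
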