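import Cfsg.Agent.Lib.Mult.F42.CvT0
import Cfsg.Agent.Lib.Mult.F42.CvT1
import Cfsg.Agent.Lib.Mult.Cov
import Cfsg.Agent.Lib.Grp.F42.Defs

set_option autoImplicit false
set_option maxRecDepth 100000
set_option Elab.async false

namespace Cfsg.Agent.Mult.F42

open Cfsg.Agent.CG Cfsg.Agent.CG.F42

noncomputable def cvP : List (List ℕ × List ℕ) := [([40,39,35,39,38,35,38,39,40,36,38,37,39,37,36,39,35,38,37,35,37,35,35,35,38,37,35,37,35,35],
  [37,35,39,40,39,38,36,38,39,35,39,40,37,36,39,36,38,39,37,38,39,38,35,37,36,37,38,36,37,36,38,35,37,36])]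
noncomputable def cv0s0 : List (ℕ × ℕ) := [(131072, (Nat.shiftLeft (Nat.sub (Nat.pow 2 69888) 1) 0))]
noncomputable def cv0s35 : List (ℕ × ℕ) := [(65536, copies 131072 2 cv0m0),
  (32768, copies 131072 2 cv0m1),
  (16384, copies 131072 2 cv0m2),
  (8192, copies 131072 2 cv0m3),
  (4096, copies 131072 2 cv0m4),
  (2048, copies 131072 2 cv0m5),
  (1024, copies 131072 2 cv0m6),
  (512, copies 131072 2 cv0m7),
  (256, copies 131072 2 cv0m8),
  (128, copies 131072 2 cv0m9),
  (64, copies 131072 2 cv0m10),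
  (32, copies 131072 2 cv0m11),
  (16, copies 131072 2 cv0m12),
  (8, copies 131072 2 cv0m13),
  (4, copies 131072 2 cv0m14),
  (2, copies 131072 2 cv0m15),
  (1, copies 131072 2 cv0m16),
  (2, copies 131072 2 cv0m17),
  (4, copies 131072 2 cv0m18),
  (8, copies 131072 2 cv0m19),
  (16, copies 131072 2 cv0m20),
  (32, copies 131072 2 cv0m21),
  (64, copies 131072 2 cv0m22),
  (128, copies 131072 2 cv0m23),
  (256, copies 131072 2 cv0m24),
  (512, copies 131072 2 cv0m25),
  (1024, copies 131072 2 cv0m26),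
  (2048, copies 131072 2 cv0m27),
  (4096, copies 131072 2 cv0m28),
  (8192, copies 131072 2 cv0m29),
  (16384, copies 131072 2 cv0m30),
  (32768, copies 131072 2 cv0m31),
  (65536, copies 131072 2 cv0m32),
  (131072, cv0m33)]
noncomputable def cv0s36 : List (ℕ × ℕ) := [(131072, cv0m33),
  (65536, copies 131072 2 cv0m32),
  (32768, copies 131072 2 cv0m31),
  (16384, copies 131072 2 cv0m30),
  (8192, copies 131072 2 cv0m29),
  (4096, copies 131072 2 cv0m28),
  (2048, copies 131072 2 cv0m27),
  (1024, copies 131072 2 cv0m26),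
  (512, copies 131072 2 cv0m25),
  (256, copies 131072 2 cv0m24),
  (128, copies 131072 2 cv0m23),
  (64, copies 131072 2 cv0m22),
  (32, copies 131072 2 cv0m21),
  (16, copies 131072 2 cv0m20),
  (8, copies 131072 2 cv0m19),
  (4, copies 131072 2 cv0m18),
  (2, copies 131072 2 cv0m17),
  (1, copies 131072 2 cv0m16),
  (2, copies 131072 2 cv0m15),
  (4, copies 131072 2 cv0m14),
  (8, copies 131072 2 cv0m13),
  (16, copies 131072 2 cv0m12),
  (32, copies 131072 2 cv0m11),
  (64, copies 131072 2 cv0m10),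
  (128, copies 131072 2 cv0m9),
  (256, copies 131072 2 cv0m8),
  (512, copies 131072 2 cv0m7),
  (1024, copies 131072 2 cv0m6),
  (2048, copies 131072 2 cv0m5),
  (4096, copies 131072 2 cv0m4),
  (8192, copies 131072 2 cv0m3),
  (16384, copies 131072 2 cv0m2),
  (32768, copies 131072 2 cv0m1),
  (65536, copies 131072 2 cv0m0)]
noncomputable def cv0s37 : List (ℕ × ℕ) := [(65536, copies 131072 2 cv0m34),
  (32768, copies 131072 2 cv0m35),
  (16384, copies 131072 2 cv0m36),
  (8192, copies 131072 2 cv0m37),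
  (4096, copies 131072 2 cv0m38),
  (2048, copies 131072 2 cv0m39),
  (1024, copies 131072 2 cv0m40),
  (512, copies 131072 2 cv0m41),
  (256, copies 131072 2 cv0m42),
  (128, copies 131072 2 cv0m43),
  (64, copies 131072 2 cv0m44),
  (32, copies 131072 2 cv0m45),
  (16, copies 131072 2 cv0m46),
  (8, copies 131072 2 cv0m47),
  (4, copies 131072 2 cv0m48),
  (2, copies 131072 2 cv0m49),
  (1, copies 131072 2 cv0m50),
  (2, copies 131072 2 cv0m51),
  (4, copies 131072 2 cv0m52),
  (8, copies 131072 2 cv0m53),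
  (16, copies 131072 2 cv0m54),
  (32, copies 131072 2 cv0m55),
  (64, copies 131072 2 cv0m56),
  (128, copies 131072 2 cv0m57),
  (256, copies 131072 2 cv0m58),
  (512, copies 131072 2 cv0m59),
  (1024, copies 131072 2 cv0m60),
  (2048, copies 131072 2 cv0m61),
  (4096, copies 131072 2 cv0m62),
  (8192, copies 131072 2 cv0m63),
  (16384, copies 131072 2 cv0m64),
  (32768, copies 131072 2 cv0m65),
  (65536, copies 131072 2 cv0m66),
  (131072, cv0m67)]
noncomputable def cv0s38 : List (ℕ × ℕ) := [(65536, copies 131072 2 cv0m68),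
  (32768, copies 131072 2 cv0m69),
  (16384, copies 131072 2 cv0m70),
  (8192, copies 131072 2 cv0m71),
  (4096, copies 131072 2 cv0m72),
  (2048, copies 131072 2 cv0m73),
  (1024, copies 131072 2 cv0m74),
  (512, copies 131072 2 cv0m75),
  (256, copies 131072 2 cv0m76),
  (128, copies 131072 2 cv0m77),
  (64, copies 131072 2 cv0m78),
  (32, copies 131072 2 cv0m79),
  (16, copies 131072 2 cv0m80),
  (8, copies 131072 2 cv0m81),
  (4, copies 131072 2 cv0m82),
  (2, copies 131072 2 cv0m83),
  (1, copies 131072 2 cv0m84),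
  (2, copies 131072 2 cv0m85),
  (4, copies 131072 2 cv0m86),
  (8, copies 131072 2 cv0m87),
  (16, copies 131072 2 cv0m88),
  (32, copies 131072 2 cv0m89),
  (64, copies 131072 2 cv0m90),
  (128, copies 131072 2 cv0m91),
  (256, copies 131072 2 cv0m92),
  (512, copies 131072 2 cv0m93),
  (1024, copies 131072 2 cv0m94),
  (2048, copies 131072 2 cv0m95),
  (4096, copies 131072 2 cv0m96),
  (8192, copies 131072 2 cv0m97),
  (16384, copies 131072 2 cv0m98),
  (32768, copies 131072 2 cv0m99),
  (65536, copies 131072 2 cv0m100),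
  (131072, cv0m101)]
noncomputable def cv0s39 : List (ℕ × ℕ) := [(65536, copies 131072 2 cv0m102),
  (32768, copies 131072 2 cv0m103),
  (16384, copies 131072 2 cv0m104),
  (8192, copies 131072 2 cv0m105),
  (4096, copies 131072 2 cv0m106),
  (2048, copies 131072 2 cv0m107),
  (1024, copies 131072 2 cv0m108),
  (512, copies 131072 2 cv0m109),
  (256, copies 131072 2 cv0m110),
  (128, copies 131072 2 cv0m111),
  (64, copies 131072 2 cv0m112),
  (32, copies 131072 2 cv0m113),
  (16, copies 131072 2 cv0m114),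
  (8, copies 131072 2 cv0m115),
  (4, copies 131072 2 cv0m116),
  (2, copies 131072 2 cv0m117),
  (1, copies 131072 2 cv0m118),
  (2, copies 131072 2 cv0m119),
  (4, copies 131072 2 cv0m120),
  (8, copies 131072 2 cv0m121),
  (16, copies 131072 2 cv0m122),
  (32, copies 131072 2 cv0m123),
  (64, copies 131072 2 cv0m124),
  (128, copies 131072 2 cv0m125),
  (256, copies 131072 2 cv0m126),
  (512, copies 131072 2 cv0m127),
  (1024, copies 131072 2 cv0m128),
  (2048, copies 131072 2 cv0m129),
  (4096, copies 131072 2 cv0m130),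
  (8192, copies 131072 2 cv0m131),
  (16384, copies 131072 2 cv0m132),
  (32768, copies 131072 2 cv0m133),
  (65536, copies 131072 2 cv0m134),
  (131072, cv0m135)]
noncomputable def cv0s40 : List (ℕ × ℕ) := [(65536, copies 131072 2 cv0m136),
  (32768, copies 131072 2 cv0m137),
  (16384, copies 131072 2 cv0m138),
  (8192, copies 131072 2 cv0m139),
  (4096, copies 131072 2 cv0m140),
  (2048, copies 131072 2 cv0m141),
  (1024, copies 131072 2 cv0m142),
  (512, copies 131072 2 cv0m143),
  (256, copies 131072 2 cv0m144),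
  (128, copies 131072 2 cv0m145),
  (64, copies 131072 2 cv0m146),
  (32, copies 131072 2 cv0m147),
  (16, copies 131072 2 cv0m148),
  (8, copies 131072 2 cv0m149),
  (4, copies 131072 2 cv0m150),
  (2, copies 131072 2 cv0m151),
  (1, copies 131072 2 cv0m152),
  (2, copies 131072 2 cv0m153),
  (4, copies 131072 2 cv0m154),
  (8, copies 131072 2 cv0m155),
  (16, copies 131072 2 cv0m156),
  (32, copies 131072 2 cv0m157),
  (64, copies 131072 2 cv0m158),
  (128, copies 131072 2 cv0m159),
  (256, copies 131072 2 cv0m160),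
  (512, copies 131072 2 cv0m161),
  (1024, copies 131072 2 cv0m162),
  (2048, copies 131072 2 cv0m163),
  (4096, copies 131072 2 cv0m164),
  (8192, copies 131072 2 cv0m165),
  (16384, copies 131072 2 cv0m166),
  (32768, copies 131072 2 cv0m167),
  (65536, copies 131072 2 cv0m168),
  (131072, cv0m169)]
noncomputable def cv0 : Mono := ⟨262144, 18, 2, 0, [cv0s0,[],[],[],[],[],[],[],[],[],[],[],[],[],[],[],[],[],[],[],[],[],[],[],[],[],[],[],[],[],[],[],[],[],[],cv0s35,cv0s36,cv0s37,cv0s38,cv0s39,cv0s40], [0,0,0,0,0,1,0,0,0,0,0,0,0,0,0,0,0,0,0,1,1,0,0,0,0,0,0,0,0,0,0,0,1,1,0,1,1,0,0,0,0,1,1,1,1,0,0,0,0,0,0,0,0,1,1,1,0,1,0]⟩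

end Cfsg.Agent.Mult.F42
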